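import Groth.Agent.Surf.K457.NT.Main
import Groth.Agent.Biell.K856.BettiX

/-!
# Numerically trivial canonical classes of smooth proper surfaces are torsion
-/

set_option autoImplicit false
universe u
open CategoryTheory CategoryTheory.Limits AlgebraicGeometry

namespace K457.NTFinal

open Groth.Agent

local notation "Sp" k:max => Spec (CommRingCat.of k)

/-- The integral case over algebraically closed fields. -/
theorem hyp : NTDesc.Hyp.{u} := by
  intro k _ _ X _ _ _ _ W hW hWi hnum
  refine NTMain.main_of k X W hW hWi hnum (fun ℓ hℓ hℓk i => ?_) (fun ℓ hℓ hℓk => ?_)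
  · have : Fact ℓ.Prime := ⟨hℓ⟩
    exact K856.BettiX.hfin (X ↘ (Sp k)) ℓ i
  · exact K856.BettiX.surface X hW ℓ hℓ hℓk

theorem main (k : Type u) [Field k] (X : Scheme.{u}) [X.Over (Sp k)]
    [IsProper (X ↘ (Sp k))] [SmoothOfRelativeDimension 2 (X ↘ (Sp k))] (W : X.Modules)
    (hW : ExtPow.IsExtPow 2 (Omega.sheaf (X ↘ (Sp k))) W)
    (hnum : _root_.Pic13.IsNumEquivZero k X W) :
    ∃ d : ℕ, 0 < d ∧ Nonempty (CohB1.tensorPow W d ≅ Coh.structureModule X) :=
  NTDesc.main hyp k X W hW hnum

end K457.NTFinal
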