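import Groth.Agent.Surf.K457.NT.Hq
import Groth.Agent.Surf.K456.Nakai
import Groth.Agent.Surf.K463.NumConn

/-!
# Numerically trivial canonical class: the cohomological core

`X` smooth proper integral surface over an algebraically closed field, `χ(O) = 0`, canonical class `w` numerically
trivial of infinite order, all integral curves have nonnegative self-intersection.  Then there is no integral curve
`D` with `D² = 0` and `D·φ > 0`, where `φ` is a class such that the powers of `w` have no sections on the curves `C`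
with `C·φ > 0`.
-/

set_option autoImplicit false
set_option linter.unusedSectionVars false
universe u
open CategoryTheory CategoryTheory.Limits AlgebraicGeometry TopologicalSpace

namespace K457.NTCore

open Groth.Agent Groth.Agent.Grpsch.PicGrp K464.Base K464.Curves K464.Comp K463.HC K457.NTHq

local notation "Sp" k:max => Spec (CommRingCat.of k)

variable (k : Type u) [Field k] {X : Scheme.{u}} [X.Over (Sp k)] [IsProper (X ↘ (Sp k))]
  [Smooth (X ↘ (Sp k))] [IsIntegral X] (hdim : topologicalKrullDim X = 2)
  {H : X.Modules} (hH : CohB1.IsAmple H)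

include hdim hH in
/-- An isotropic class that is positive against an ample class is nonnegative on classes with nonnegative square. -/
theorem nonneg_of_isotropic {a c : Pic X} (haa : dot k X a a = 0) (hah : 0 < dot k X a (mk H hH.1))
    (hcc : 0 ≤ dot k X c c) (hch : 0 < dot k X c (mk H hH.1)) : 0 ≤ dot k X a c := by
  have hd : topologicalKrullDim X ≤ (2 : ℕ) := hdim.le
  have hhh : 0 < dot k X (mk H hH.1) (mk H hH.1) := K464.Ample.dot_pos_of_ample k hdim hH.1 hH.1 hH hH
  set h := mk H hH.1 with hh
  have h1 : dot k X h (a ^ (dot k X c h) * c ^ (-dot k X a h)) = 0 := by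
    rw [dot_mul_right k X hd, dot_zpow_right k X hd, dot_zpow_right k X hd, dot_comm k X h a, dot_comm k X h c]
    ring
  have h2 := K456.Nakai.hodge k hdim hH hhh h1
  simp only [dot_mul_left k X hd, dot_mul_right k X hd, dot_zpow_left k X hd, dot_zpow_right k X hd] at h2
  rw [haa, dot_comm k X c a] at h2
  have h3 : (dot k X a h) * (dot k X a h) * dot k X c c ≤ 2 * (dot k X c h * dot k X a h) * dot k X a c := by
    nlinarith
  have h4 : 0 ≤ 2 * (dot k X c h * dot k X a h) * dot k X a c := le_trans (by positivity) h3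
  exact nonneg_of_mul_nonneg_right h4 (by positivity)

include hdim hH in
theorem sq_nonpos_of_isotropic {a c : Pic X} (haa : dot k X a a = 0) (hah : 0 < dot k X a (mk H hH.1))
    (hac : dot k X a c = 0) : dot k X c c ≤ 0 := by
  have hd : topologicalKrullDim X ≤ (2 : ℕ) := hdim.le
  have hhh : 0 < dot k X (mk H hH.1) (mk H hH.1) := K464.Ample.dot_pos_of_ample k hdim hH.1 hH.1 hH hH
  set h := mk H hH.1 with hh
  have h1 : dot k X h (a ^ (dot k X c h) * c ^ (-dot k X a h)) = 0 := by
    rw [dot_mul_right k X hd, dot_zpow_right k X hd, dot_zpow_right k X hd, dot_comm k X h a, dot_comm k X h c]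
    ring
  have h2 := K456.Nakai.hodge k hdim hH hhh h1
  simp only [dot_mul_left k X hd, dot_mul_right k X hd, dot_zpow_left k X hd, dot_zpow_right k X hd] at h2
  rw [haa, dot_comm k X c a, hac] at h2
  by_contra hcon
  push Not at hcon
  have : 0 < (dot k X a h) * (dot k X a h) * dot k X c c := by positivity
  nlinarith

include hdim hH in
theorem dot_inv_ic_pos {C : X.IdealSheafData} (hC : IsCurve C) (hE : BlowUp.IsEffCartierIdeal C) :
    0 < dot k X (ic C hE)⁻¹ (mk H hH.1) := by
  rw [dot_inv_left k X hdim.le]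
  have := K463.RRd.dot_ic_neg_of_ample k hdim hC hE hH.1 hH
  linarith

include hdim hH in
/-- A component of positive product with `φ` and square zero. -/
theorem exists_comp {φ a : Pic X} (haa : dot k X a a = 0) (hah : 0 < dot k X a (mk H hH.1))
    (ha : ∀ C : X.IdealSheafData, IsCurve C → 0 ≤ degOn k X C a)
    (hC0 : ∀ (C : X.IdealSheafData) (_ : IsCurve C) (hE : BlowUp.IsEffCartierIdeal C),
      0 ≤ dot k X (ic C hE) (ic C hE))
    {G : X.IdealSheafData} (hG : BlowUp.IsEffCartierIdeal G) (hGa : degOn k X G a = 0)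
    (hGφ : 0 < degOn k X G φ) :
    ∃ (C R : X.IdealSheafData) (_ : IsCurve C) (hE : BlowUp.IsEffCartierIdeal C) (_ : BlowUp.IsEffCartierIdeal R),
      G = C * R ∧ 0 < degOn k X C φ ∧ dot k X (ic C hE) (ic C hE) = 0 := by
  classical
  have hd : topologicalKrullDim X ≤ (2 : ℕ) := hdim.le
  obtain ⟨s, hs, rfl⟩ := K463.NumConn.exists_multiset k hdim G hG
  rw [K463.NumConn.degOn_prod_multiset k hdim s hs] at hGa hGφ
  obtain ⟨C, hCs, hCφ⟩ : ∃ C ∈ s, 0 < degOn k X C φ := by
    by_contra hcon
    push Not at hcon
    refine absurd hGφ (not_lt.2 ((Multiset.sum_le_card_nsmul _ 0 ?_).trans (by simp)))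
    intro x hx
    obtain ⟨C, hC, rfl⟩ := Multiset.mem_map.1 hx
    exact hcon C hC
  have hCa : degOn k X C a = 0 := by
    refine Multiset.all_zero_of_le_zero_le_of_sum_eq_zero (s := s.map fun C => degOn k X C a) ?_ hGa _
      (Multiset.mem_map.2 ⟨C, hCs, rfl⟩)
    intro x hx
    obtain ⟨C, hC, rfl⟩ := Multiset.mem_map.1 hx
    exact ha C (hs C hC)
  have hC := hs C hCs
  have hE := isEff_of_smooth k hdim hC
  have hR : BlowUp.IsEffCartierIdeal (s.erase C).prod :=
    K458.Ram.isEff_prod _ fun A hA => isEff_of_smooth k hdim (hs A (Multiset.mem_of_mem_erase hA))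
  refine ⟨C, (s.erase C).prod, hC, hE, hR, ?_, hCφ, ?_⟩
  · rw [← Multiset.prod_cons, Multiset.cons_erase hCs]
  · refine le_antisymm (sq_nonpos_of_isotropic k hdim hH haa hah ?_) (hC0 C hC hE)
    rw [dot_comm, dot_ic_eq, hCa, neg_zero]

end K457.NTCore
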