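import Groth.Agent.Surf.K457.NT.Core

/-!
# Numerically trivial canonical class: the cohomological core, II
-/

set_option autoImplicit false
set_option linter.unusedSectionVars false
universe u
open CategoryTheory CategoryTheory.Limits AlgebraicGeometry TopologicalSpace

namespace K457.NTCore2

open Groth.Agent Groth.Agent.Grpsch.PicGrp Divis Divis.EffCartier K464.Base K464.Curves K464.Comp K463.HC K457.NTHq K457.NTCore

local notation "Sp" k:max => Spec (CommRingCat.of k)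

variable (k : Type u) [Field k] [IsAlgClosed k] {X : Scheme.{u}} [X.Over (Sp k)] [IsProper (X ↘ (Sp k))]
  [Smooth (X ↘ (Sp k))] [IsIntegral X] (hdim : topologicalKrullDim X = 2)
  {W : X.Modules} (hW : ExtPow.IsExtPow 2 (Omega.sheaf (X ↘ (Sp k))) W) (hWi : PicF.IsInvertible W)
  {H : X.Modules} (hH : CohB1.IsAmple H)
  (hnum : ∀ a : Pic X, dot k X a (mk W hWi) = 0) (hchi : chi k X 1 = 0)
  (hnt : ∀ n : ℕ, 0 < n → mk W hWi ^ n ≠ 1)

include hdim hH hnum hnt in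
theorem hc0_zpow {n : ℤ} (hn : n ≠ 0) : hc k X 0 (mk W hWi ^ n) = 0 := by
  by_contra hcon
  have h1 := K463.RRd.eq_one_of_dot_eq_zero k hdim (Nat.pos_of_ne_zero hcon) hH.1 hH (by
     rw [dot_zpow_left k X hdim.le, dot_comm, hnum, mul_zero])
  exact hnt n.natAbs (Int.natAbs_pos.2 hn) (pow_natAbs_eq_one.2 h1)

include hdim hW hH hnum hnt in
theorem hc2_zpow {n : ℤ} (hn : n ≠ 1) : hc k X 2 (mk W hWi ^ n) = 0 := by
  rw [K463.RRd.hc_dual k hdim hW hWi _ 0 2 rfl]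
  have : mk W hWi * (mk W hWi ^ n)⁻¹ = mk W hWi ^ (1 - n) := by
    rw [zpow_sub, zpow_one]
  rw [this]
  exact hc0_zpow k hdim hWi hH hnum hnt (by omega)

include hdim hW hnum hchi in
theorem chi_zpow (n : ℤ) : chi k X (mk W hWi ^ n) = 0 := by
  have h := K463.RRd.rr k hdim hW hWi (mk W hWi ^ n)
  rw [hnum, hchi, dot_zpow_right k X hdim.le, hnum] at h
  linarith

include hdim hW hH hnum hchi hnt in
theorem hc1_zpow {n : ℤ} (hn : n ≠ 0) (hn1 : n ≠ 1) : hc k X 1 (mk W hWi ^ n) = 0 := by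
  have h := chi_eq k X hdim.le (mk W hWi ^ n)
  rw [chi_zpow k hdim hW hWi hnum hchi, hc0_zpow k hdim hWi hH hnum hnt hn,
    hc2_zpow k hdim hW hWi hH hnum hnt hn1] at h
  have : (hc k X 1 (mk W hWi ^ n) : ℤ) = 0 := by push_cast at h; linarith
  exact_mod_cast this

section curve

variable {D : X.IdealSheafData} (hD : IsCurve D) (hE : BlowUp.IsEffCartierIdeal D)
  (hDD : dot k X (ic D hE) (ic D hE) = 0)
  (hres : ∀ n : ℤ, n ≠ 0 → hq k D 0 (mk W hWi ^ n) = 0)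

include hdim hW hnum hDD in
theorem euler_zero : Curv2.euler k X (ClSub.quotMod D) = 0 := by
  have h := K463.RRd.adj k hdim hW hWi hE
  rw [hDD, hnum] at h
  linarith

include hdim hW hnum hD hDD in
theorem hq_eq {a : Pic X} (ha : dot k X (ic D hE) a = 0) : hq k D 0 a = hq k D 1 a := by
  have h := chi_hq k hD a
  rw [euler_zero k hdim hW hWi hnum hE hDD, degOn_eq_neg_dot k X hE, ha] at h
  have : (hq k D 0 a : ℤ) = hq k D 1 a := by linarith
  exact_mod_cast this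

include hdim hW hnum hD hDD hres in
theorem hq_zpow {n : ℤ} (hn : n ≠ 0) (i : ℕ) (hi : i ≤ 1) : hq k D i (mk W hWi ^ n) = 0 := by
  have h0 := hres n hn
  interval_cases i
  · exact h0
  · rw [← hq_eq k hdim hW hWi hnum hD hE hDD (a := mk W hWi ^ n), h0]
    rw [dot_zpow_right k X hdim.le, hnum, mul_zero]

include hdim hW hH hnum hD hDD in
/-- `(D + w)|_D` is trivial. -/
theorem pull_triv : pull D.subschemeι ((ic D hE)⁻¹ * mk W hWi) = 1 := by
  have hd : topologicalKrullDim X ≤ (2 : ℕ) := hdim.le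
  have h0 : dot k X (ic D hE) ((ic D hE)⁻¹ * mk W hWi) = 0 := by
    rw [dot_mul_right k X hd, dot_inv_right k X hd, hDD, hnum]
    ring
  apply pull_eq_one k hD
  · rw [degOn_eq_neg_dot k X hE, h0, neg_zero]
  · rw [hq_eq k hdim hW hWi hnum hD hE hDD h0]
    have h1 := les₁ k hE ((ic D hE)⁻¹ * mk W hWi) 1
    have h2 : (ic D hE)⁻¹ * mk W hWi * ic D hE = mk W hWi := by
      rw [mul_comm, ← mul_assoc, mul_inv_cancel, one_mul]
    rw [h2, K463.RRd.hc_dual k hdim hW hWi (mk W hWi) 0 2 rfl, mul_inv_cancel, K463.RRd.hc_zero_one k,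
      K463.RRd.hc_dual k hdim hW hWi _ 0 2 rfl] at h1
    have h3 : mk W hWi * ((ic D hE)⁻¹ * mk W hWi)⁻¹ = ic D hE := by
      rw [mul_inv, inv_inv, mul_comm (ic D hE), ← mul_assoc, mul_inv_cancel, one_mul]
    rw [h3, K463.RRd.hc_zero_eq_zero k hdim hH.1 hH (K463.RRd.dot_ic_neg_of_ample k hdim hD hE hH.1 hH)] at h1
    omega

include hdim hW hH hnum hchi hnt hD hDD hres in
/-- `H^i(X, jD + mw) = 0` for `i ≤ 1` and `j < m`, `m ≥ 2`. -/
theorem hc_vanish {m : ℕ} (hm : 2 ≤ m) (j : ℕ) (hj : j < m) (i : ℕ) (hi : i ≤ 1) :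
    hc k X i ((ic D hE)⁻¹ ^ j * mk W hWi ^ m) = 0 := by
  induction j with
  | zero =>
    rw [pow_zero, one_mul, ← zpow_natCast]
    interval_cases i
    · exact hc0_zpow k hdim hWi hH hnum hnt (by omega)
    · exact hc1_zpow k hdim hW hWi hH hnum hchi hnt (by omega) (by omega)
  | succ j ih =>
    have h1 := les₂ k hE ((ic D hE)⁻¹ ^ (j + 1) * mk W hWi ^ m) i
    have h2 : (ic D hE)⁻¹ ^ (j + 1) * mk W hWi ^ m * ic D hE = (ic D hE)⁻¹ ^ j * mk W hWi ^ m := by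
      rw [pow_succ]
      calc _ = (ic D hE)⁻¹ ^ j * mk W hWi ^ m * ((ic D hE)⁻¹ * ic D hE) := by
            simp only [mul_assoc, mul_comm]
        _ = _ := by rw [inv_mul_cancel, mul_one]
    rw [h2, ih (by omega)] at h1
    obtain ⟨r, rfl⟩ : ∃ r, m = r + (j + 1) := ⟨m - (j + 1), by omega⟩
    have h3 : (ic D hE)⁻¹ ^ (j + 1) * mk W hWi ^ (r + (j + 1)) =
        mk W hWi ^ (r : ℤ) * ((ic D hE)⁻¹ * mk W hWi) ^ (j + 1) := by
      rw [mul_pow, pow_add (mk W hWi), zpow_natCast, mul_left_comm]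
    rw [h3] at h1 ⊢
    rw [hq_mul_of_pull k D i _ _ (by
      rw [map_pow, pull_triv k hdim hW hWi hH hnum hD hE hDD, one_pow]),
      hq_zpow k hdim hW hWi hnum hD hE hDD hres (by omega) i hi] at h1
    omega

include hdim hW hH hnum hchi hnt hD hDD hres in
/-- `2D + 2w` is effective. -/
theorem hc_pos : 0 < hc k X 0 (((ic D hE)⁻¹ * mk W hWi) ^ 2) := by
  have h1 := les₃ k hE (((ic D hE)⁻¹ * mk W hWi) ^ 2) 0
  have h2 : ((ic D hE)⁻¹ * mk W hWi) ^ 2 * ic D hE = (ic D hE)⁻¹ ^ 1 * mk W hWi ^ 2 := by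
    rw [mul_pow, pow_one, pow_two ((ic D hE)⁻¹)]
    calc _ = (ic D hE)⁻¹ * mk W hWi ^ 2 * ((ic D hE)⁻¹ * ic D hE) := by
          simp only [mul_assoc, mul_comm, mul_left_comm]
      _ = _ := by rw [inv_mul_cancel, mul_one]
  rw [h2, hc_vanish k hdim hW hWi hH hnum hchi hnt hD hE hDD hres le_rfl 1 (by omega) 1 le_rfl] at h1
  have h3 : hq k D 0 (((ic D hE)⁻¹ * mk W hWi) ^ 2) = 1 := by
    have h4 := hq_mul_of_pull k D 0 (((ic D hE)⁻¹ * mk W hWi) ^ 2) 1 (by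
      rw [map_pow, pull_triv k hdim hW hWi hH hnum hD hE hDD, one_pow])
    rw [one_mul] at h4
    rw [h4, hq_zero_one k hD]
  omega

include hdim hW hH hnum hchi hnt hD hDD hres in
/-- `4D + 6w` is not effective. -/
theorem hc_zero : hc k X 0 ((((ic D hE)⁻¹ * mk W hWi) ^ 2) ^ 2 * mk W hWi ^ 2) = 0 := by
  have h1 := hc_vanish k hdim hW hWi hH hnum hchi hnt hD hE hDD hres (m := 6) (by norm_num) 4 (by norm_num) 0
    (by norm_num)
  have h2 : (((ic D hE)⁻¹ * mk W hWi) ^ 2) ^ 2 * mk W hWi ^ 2 = (ic D hE)⁻¹ ^ 4 * mk W hWi ^ 6 := by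
    rw [← pow_mul, mul_pow, mul_assoc, ← pow_add]
  rw [h2, h1]

end curve

include hdim hW hH hnum hchi hnt in
/-- **The core.** -/
theorem core {φ : Pic X}
    (hres : ∀ C : X.IdealSheafData, IsCurve C → 0 < degOn k X C φ → ∀ n : ℤ, n ≠ 0 → hq k C 0 (mk W hWi ^ n) = 0)
    (hC0 : ∀ (C : X.IdealSheafData) (_ : IsCurve C) (hE : BlowUp.IsEffCartierIdeal C),
      0 ≤ dot k X (ic C hE) (ic C hE))
    {D : X.IdealSheafData} (hD : IsCurve D) (hE : BlowUp.IsEffCartierIdeal D)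
    (hDD : dot k X (ic D hE) (ic D hE) = 0) (hDφ : 0 < degOn k X D φ) : False := by
  have hd : topologicalKrullDim X ≤ (2 : ℕ) := hdim.le
  obtain ⟨G, hG, hGe⟩ := exists_div k (hc_pos k hdim hW hWi hH hnum hchi hnt hD hE hDD (hres D hD hDφ))
  have hic : ic G hG = (((ic D hE)⁻¹ * mk W hWi) ^ 2)⁻¹ := by rw [hGe, inv_inv]
  have hwd : ∀ a, dot k X (mk W hWi) a = 0 := fun a => by rw [dot_comm, hnum]
  have hGdeg : ∀ a, degOn k X G a = 2 * degOn k X D a := by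
    intro a
    rw [degOn_eq_neg_dot k X hG, degOn_eq_neg_dot k X hE, hic, dot_inv_left k X hd, dot_pow_left k X hd,
      dot_mul_left k X hd, dot_inv_left k X hd, hwd]
    push_cast
    ring
  have hdeg : ∀ C : X.IdealSheafData, IsCurve C → 0 ≤ degOn k X C (ic D hE)⁻¹ := by
    intro C hC
    have hCE := isEff_of_smooth k hdim hC
    rw [degOn_eq_neg_dot k X hCE, dot_inv_right k X hd, neg_neg]
    by_cases h : C = D
    · subst h
      exact hDD.ge
    · exact dot_ic_ic_nonneg k hC hCE hE (gp_notMem hC hD h)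
  obtain ⟨C, R, hC, hCE, hR, hGCR, hCφ, hCC⟩ := exists_comp k hdim hH (φ := φ) (a := (ic D hE)⁻¹)
    (by rw [dot_inv_inv k X hd, hDD]) (dot_inv_ic_pos k hdim hH hD hE) hdeg hC0 hG
    (by
      rw [hGdeg, degOn_eq_neg_dot k X hE, dot_inv_right k X hd, hDD]
      ring)
    (by rw [hGdeg]; linarith)
  subst hGCR
  obtain ⟨G', hG', hGe'⟩ := exists_div k (hc_pos k hdim hW hWi hH hnum hchi hnt hC hCE hCC (hres C hC hCφ))
  have h0 := hc_zero k hdim hW hWi hH hnum hchi hnt hD hE hDD (hres D hD hDφ)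
  have h1 : (((ic D hE)⁻¹ * mk W hWi) ^ 2) ^ 2 * mk W hWi ^ 2 = (ic (G' * R ^ 2)
      (Divis.EffCartier.isEff_mul hG' (isEff_pow hR 2)))⁻¹ := by
    rw [ic_mul hG' (isEff_pow hR 2), ic_pow hR, mul_inv, ← hGe', hGe, ic_mul hCE hR, mul_inv, mul_pow, mul_pow,
      inv_pow (ic R hR), mul_assoc, mul_assoc, mul_comm ((ic R hR ^ 2)⁻¹)]
  rw [h1] at h0
  have := hc_zero_inv_pos k (Divis.EffCartier.isEff_mul hG' (isEff_pow hR 2))
  omega

end K457.NTCore2
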