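import Groth.Agent.Pic13.K244.TorsMain
import Groth.Agent.Pic13.K244.NormExt
import Groth.Agent.Pic13.K244.NumBCT
import Groth.Agent.Models.H130.PicBc
import Groth.Agent.Surf.K463.RRd
import Groth.Agent.Vancyc.H878.RelOmega
import Groth.Agent.OmegaSh.K583.ExtPowPull
import Groth.Agent.Dual.H328.ClopenGlue

/-!
# Numerically trivial canonical classes: reduction to integral surfaces over algebraically closed fields
-/

set_option autoImplicit false
set_option linter.unusedSectionVars false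
universe u
open CategoryTheory CategoryTheory.Limits AlgebraicGeometry TopologicalSpace

namespace K457.NTDesc

open Groth.Agent Groth.Agent.Grpsch.PicGrp

local notation "Sp" k:max => Spec (CommRingCat.of k)

/-- The statement for integral surfaces over algebraically closed fields. -/
def Hyp : Prop :=
  ∀ (k : Type u) [Field k] [IsAlgClosed k] (X : Scheme.{u}) [X.Over (Sp k)] [IsIntegral X] [IsProper (X ↘ (Sp k))]
    [SmoothOfRelativeDimension 2 (X ↘ (Sp k))] (W : X.Modules)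
    (_ : ExtPow.IsExtPow 2 (Omega.sheaf (X ↘ (Sp k))) W) (hWi : PicF.IsInvertible W)
    (_ : _root_.Pic13.IsNumEquivZero k X W), ∃ d : ℕ, 0 < d ∧ mk W hWi ^ d = 1

theorem isInvertible_W {k : Type u} [Field k] {X : Scheme.{u}} (f : X ⟶ Sp k) [SmoothOfRelativeDimension 2 f]
    {W : X.Modules} (hW : ExtPow.IsExtPow 2 (Omega.sheaf f) W) [QuasiSeparated f] : PicF.IsInvertible W :=
  K463.RRd.isInvertible_extPow (Dual.H339.OmegaRank.isFinLocFreeOfRank_omega 2 f) hW

/-- Algebraically closed fields. -/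
theorem of_hyp (H : Hyp.{u}) (k : Type u) [Field k] [IsAlgClosed k] (X : Scheme.{u}) [X.Over (Sp k)]
    [IsProper (X ↘ (Sp k))] [SmoothOfRelativeDimension 2 (X ↘ (Sp k))] (W : X.Modules)
    (hW : ExtPow.IsExtPow 2 (Omega.sheaf (X ↘ (Sp k))) W) (hWi : PicF.IsInvertible W)
    (hnum : _root_.Pic13.IsNumEquivZero k X W) : ∃ d : ℕ, 0 < d ∧ mk W hWi ^ d = 1 := by
  have hLN : IsLocallyNoetherian X := LocallyOfFiniteType.isLocallyNoetherian (X ↘ (Sp k))
  have hc : CompactSpace X := (quasiCompact_iff_compactSpace (X ↘ (Sp k))).mp inferInstance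
  have hN : AlgebraicGeometry.IsNoetherian X := {}
  have hsm : Smooth (X ↘ (Sp k)) := SmoothOfRelativeDimension.smooth 2 _
  have hX : Pi1.IsNormalScheme X := K244.NormExt.isNormalScheme_of_smooth (X ↘ (Sp k))
  refine K244.TorsNormal.exists_pow_of_components (mk W hWi) (fun U hU hUc => ?_)
  have hcl : IsClosedImmersion U.ι := IsClosedImmersion.of_isPreimmersion U.ι (by
    rw [Scheme.Opens.range_ι]; exact hUc)
  let _ : (U : Scheme.{u}).Over (Sp k) := ⟨U.ι ≫ (X ↘ (Sp k))⟩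
  have hUo : U.ι ≫ (X ↘ (Sp k)) = (U : Scheme.{u}) ↘ (Sp k) := rfl
  have hUp : IsProper ((U : Scheme.{u}) ↘ (Sp k)) := by rw [← hUo]; infer_instance
  have hUn := K244.TorsMain.isNormalScheme_of_isOpenImmersion U.ι hX
  have hUi : IsIntegral (U : Scheme.{u}) :=
    (S2280.result (U : Scheme.{u})).2.mpr ⟨hU, fun x => (hUn x).1⟩
  have hUs : SmoothOfRelativeDimension 2 ((U : Scheme.{u}) ↘ (Sp k)) := by
    rw [← hUo]
    exact (inferInstance : SmoothOfRelativeDimension (0 + 2) (U.ι ≫ (X ↘ (Sp k))))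
  obtain ⟨W', hW'⟩ := K463.RRd.exists_W k (X := (U : Scheme.{u}))
  have hWi' := isInvertible_W ((U : Scheme.{u}) ↘ (Sp k)) hW'
  obtain ⟨e⟩ := Dual.H328.ClopenGlue.nonempty_ext_restrict (X ↘ (Sp k)) U hW hW'
  have e1 : (Scheme.Modules.pullback U.ι).obj W ≅ W' :=
    ((Scheme.Modules.restrictFunctorIsoPullback U.ι).app W).symm ≪≫ e
  have h1 := K244.NumBC.isNumEquivZero_iso k e1 (Pic13.H960.NumDescent.isNumEquivZero_pullback k U.ι hUo hWi hnum)
  obtain ⟨d, hd, h2⟩ := H k (U : Scheme.{u}) W' hW' hWi' h1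
  refine ⟨d, hd, ?_⟩
  rw [map_pow, pull_mk, ← h2]
  congr 1
  exact mk_congr e1

/-- **Reduction.** -/
theorem main (H : Hyp.{u}) (k : Type u) [Field k] (X : Scheme.{u}) [X.Over (Sp k)]
    [IsProper (X ↘ (Sp k))] [SmoothOfRelativeDimension 2 (X ↘ (Sp k))] (W : X.Modules)
    (hW : ExtPow.IsExtPow 2 (Omega.sheaf (X ↘ (Sp k))) W)
    (hnum : _root_.Pic13.IsNumEquivZero k X W) :
    ∃ d : ℕ, 0 < d ∧ Nonempty (CohB1.tensorPow W d ≅ Coh.structureModule X) := by
  have hWi := isInvertible_W (X ↘ (Sp k)) hW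
  let s : Sp (AlgebraicClosure k) ⟶ Sp k := Spec.map (CommRingCat.ofHom (algebraMap k (AlgebraicClosure k)))
  let X₁ : Scheme.{u} := pullback (X ↘ (Sp k)) s
  let _ : X₁.Over (Sp (AlgebraicClosure k)) := ⟨pullback.snd (X ↘ (Sp k)) s⟩
  let g : X₁ ⟶ X := pullback.fst (X ↘ (Sp k)) s
  have hpb : IsPullback g (X₁ ↘ (Sp (AlgebraicClosure k))) (X ↘ (Sp k)) s := IsPullback.of_hasPullback _ _
  have hX₁ : IsProper (X₁ ↘ (Sp (AlgebraicClosure k))) := MorphismProperty.of_isPullback hpb inferInstance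
  have := smoothOfRelativeDimension_isStableUnderBaseChange (n := 2)
  have hX₁s : SmoothOfRelativeDimension 2 (X₁ ↘ (Sp (AlgebraicClosure k))) :=
    MorphismProperty.of_isPullback (P := @SmoothOfRelativeDimension 2) hpb inferInstance
  have h1 := K583.ExtPowPull.isExtPow_pullback g (Dual.H328.ClopenGlue.isQCoh_omega _) hW
  have e1 := Vancyc.H878.RelOmega.omegaBC hpb
  obtain ⟨W', hW'⟩ := K463.RRd.exists_W (AlgebraicClosure k) (X := X₁)
  have hWi' := isInvertible_W (X₁ ↘ (Sp (AlgebraicClosure k))) hW'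
  obtain ⟨e2⟩ := Dual.H375.ExtRestr.nonempty_iso e1 h1 hW'
  have h2 := K244.NumBC.isNumEquivZero_iso _ e2 (K244.NumBC.isNumEquivZero_pullback hpb hWi hnum)
  obtain ⟨d, hd, h3⟩ := of_hyp H (AlgebraicClosure k) X₁ W' hW' hWi' h2
  refine ⟨d, hd, ?_⟩
  rw [← mk_eq_one_iff (Fdesc.LocGen.isInvertible_tensorPow hWi d), mk_tensorPow hWi]
  refine Groth.Agent.Models.H130.PicBc.eq_one_of_pull_field k X (X ↘ (Sp k)) (AlgebraicClosure k) _ ?_
  change pull g _ = 1
  rw [map_pow, pull_mk, ← h3]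
  congr 1
  exact mk_congr e2

end K457.NTDesc
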