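import Groth.Agent.Surf.K463.RRd
import Groth.Agent.VBCurve.K704.InvHom

/-!
# Nonzero homomorphisms of invertible modules and effective classes
-/

set_option autoImplicit false
set_option linter.unusedSectionVars false
universe u
open CategoryTheory CategoryTheory.Limits AlgebraicGeometry TopologicalSpace

namespace K457.NTHom

open Groth.Agent Groth.Agent.Grpsch.PicGrp K464.Base K463.HC

local notation "Sp" k:max => Spec (CommRingCat.of k)

variable (k : Type u) [Field k] {X : Scheme.{u}} [X.Over (Sp k)] [IsProper (X ↘ (Sp k))] [IsIntegral X]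

/-- A nonzero map `A → B` of invertible modules gives a nonzero section of `B ⊗ A⁻¹`. -/
theorem hc_pos_of_hom {A B : X.Modules} (hA : PicF.IsInvertible A) (hB : PicF.IsInvertible B) (u : A ⟶ B)
    (hu : u ≠ 0) : 0 < hc k X 0 (mk B hB * (mk A hA)⁻¹) := by
  have hm : Mono u := K704.InvHom.mono_of_ne_zero hA hB u hu
  obtain ⟨A', hA', ⟨e⟩⟩ := exists_inverse hA
  have h1 : (mk A hA)⁻¹ = mk A' hA' := by
    rw [inv_eq_iff_mul_eq_one, mk_mul_mk, mk_eq_one_iff]
    exact ⟨e⟩
  have hS : (ShortComplex.mk u (cokernel.π u) (cokernel.condition u)).ShortExact :=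
    { exact := ShortComplex.exact_of_g_is_cokernel _ (cokernelIsCokernel _)
      mono_f := hm
      epi_g := inferInstanceAs (Epi (cokernel.π u)) }
  have hT := Fga.TwistCoh.shortExact_tensorBi hA' _ hS
  have hm' : Mono ((DCoh.tensorBi.obj A').map u) := hT.mono_f
  have e' : Coh.structureModule X ≅ CohB1.tensorMod A' A := e.symm ≪≫ Ega2.Tens.swap A A'
  let t : Coh.structureModule X ⟶ CohB1.tensorMod A' B := e'.hom ≫ (DCoh.tensorBi.obj A').map u
  have ht : Mono t := @mono_comp _ _ _ _ _ e'.hom inferInstance ((DCoh.tensorBi.obj A').map u) hm'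
  have hne : t ≠ 0 := K704.InvHom.ne_zero_of_mono Fdesc.LocGen.isInvertible_structureModule t
  have hs : Dcoh.FinLocFree.unitEquiv _ t ≠ 0 := fun h => hne ((AddEquiv.map_eq_zero_iff _).1 h)
  have hAB := Fdesc.LocGen.isInvertible_tensorMod hA' hB
  rw [h1, mul_comm, mk_mul_mk, hc_mk]
  have := finite_HH k X hAB 0
  have := K456.SecTriv.nontrivial_of_ne_zero hs
  exact Module.finrank_pos

end K457.NTHom
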