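import Groth.Agent.VBCurve.K707.Slope
import Groth.Agent.Surf.K463.RRd
import Groth.Agent.S15827
import Groth.Agent.S2288
import Groth.Agent.Sga67.TensorOps
import Groth.Agent.Fga.HodgePush

/-!
# Line bundles on a curve that become trivial on a dominating integral scheme are torsion
-/

set_option autoImplicit false
set_option linter.unusedSectionVars false
universe u
open CategoryTheory CategoryTheory.Limits AlgebraicGeometry TopologicalSpace Opposite

namespace K457.NTNorm

open Groth.Agent Groth.Agent.Grpsch.PicGrp K707.Base K707.Deg K707.Slope Groth.Agent.VarietyA.DegRank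

local notation "Sp" k:max => Spec (CommRingCat.of k)

variable {k : Type u} [Field k] {E : Scheme.{u}} [E.Over (Sp k)] [IsIntegral E] [IsProper (E ↘ (Sp k))]

section push

variable (C : Crv k E) {Z : Scheme.{u}} [IsIntegral Z] (g : Z ⟶ E) [IsProper g] [IsDominant g]

include C in
/-- The direct image of an invertible module on an integral scheme dominating a regular curve is locally free. -/
theorem vb_push {L : Z.Modules} (hL : PicF.IsInvertible L) :
    Coh.IsCoh ((Scheme.Modules.pushforward g).obj L) ∧ FlatMod.IsFinLocFree ((Scheme.Modules.pushforward g).obj L) := by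
  have := isLocNoeth C
  have hL' : FlatMod.IsFinLocFreeOfRank 1 L := Ega2.QCohLocal.isFinLocFreeOfRank_one_iff.mpr hL
  have hZ : IsLocallyNoetherian Z := LocallyOfFiniteType.isLocallyNoetherian g
  have hcL : Coh.IsCoh L := S2329.isCoh_of_isInvertible hL
  have hc : Coh.IsCoh ((Scheme.Modules.pushforward g).obj L) := Fga.HodgePush.isCoh_push g hcL
  have : Coh.IsQCoh L := hcL.1
  exact ⟨hc, vb_of_torsionFree C hc (S2288.result g L (isTorsionFree_of_isFinLocFree (isFinLocFree_of_rank hL')))⟩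

include C in
theorem rk_push_pos : 0 < rk ((Scheme.Modules.pushforward g).obj (Coh.structureModule Z)) := by
  obtain ⟨hc, hv⟩ := vb_push C g (L := Coh.structureModule Z) Fdesc.LocGen.isInvertible_structureModule
  rw [Nat.pos_iff_ne_zero]
  intro h0
  have h1 := isZero_of_rk_eq_zero C hv h0
  have h2 : ClSub.unitToPush g = 0 := h1.eq_of_tgt _ _
  have h3 : (ClSub.unitToPush g).app ⊤ (Fdesc.LocGen.one ⊤) = 0 := by
    rw [h2]
    rfl
  have h4 : (1 : Γ(Z, ⊤)) = 0 := by
    have h5 : g.app ⊤ 1 = 0 := h3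
    rwa [map_one] at h5
  exact one_ne_zero h4

include C in
/-- `g^* b = 1` implies that `b` is torsion. -/
theorem pow_eq_one {b : Pic E} (h : pull g b = 1) : ∃ d : ℕ, 0 < d ∧ b ^ d = 1 := by
  obtain ⟨hc, hv⟩ := vb_push C g (L := Coh.structureModule Z) Fdesc.LocGen.isInvertible_structureModule
  obtain ⟨B, hB, rfl⟩ := exists_mk b
  rw [pull_mk, mk_eq_one_iff] at h
  obtain ⟨e⟩ := h
  set V := (Scheme.Modules.pushforward g).obj (Coh.structureModule Z) with hV
  refine ⟨rk V, rk_push_pos C g, ?_⟩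
  have e1 : CohB1.tensorMod V B ≅ V := Ega2.Tens.swap _ _ ≪≫
    VarietyB.ProjForm.projIsoUnit g (VarietyB.TensCoh.HasBases.of_isFinLocFreeOfRank (Ega2.QCohLocal.isFinLocFreeOfRank_one_iff.mpr hB)) ≪≫ (Scheme.Modules.pushforward g).mapIso e
  have hc' : Coh.IsCoh (CohB1.tensorMod V B) := Sga67.CohBasic.isCoh_of_iso e1.symm hc
  obtain ⟨D, hD⟩ := Dual.H366.ExtQCoh.exists_isExtPow (rk V) hc.1
  obtain ⟨D', hD'⟩ := Dual.H366.ExtQCoh.exists_isExtPow (rk V) hc'.1
  obtain ⟨e2⟩ := Sga67.TensorOps.nonempty_iso_of_isExtPow e1 hD' hD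
  obtain ⟨e3⟩ := S15827.result V B hv (Ega2.QCohLocal.isFinLocFreeOfRank_one_iff.mpr hB) (rk V) D' D hD' hD
  have hDi : PicF.IsInvertible D := K463.RRd.isInvertible_extPow (isFinLocFreeOfRank_rk hv) hD
  have h5 : mk D hDi = mk D hDi * mk B hB ^ rk V := by
    rw [← mk_tensorPow, mk_mul_mk, mk_eq_iff]
    exact ⟨e2.symm ≪≫ e3⟩
  exact (mul_eq_left.1 h5.symm)

end push

end K457.NTNorm
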