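import Groth.Agent.Surf.K457.NT.Core
import Groth.Agent.Surf.K457.NT.Norm
import Groth.Agent.Surf.K457.NT.Hom
import Groth.Agent.Surf.K464.FibCurve
import Groth.Agent.VBCurve.K705.Gen1Iff
import Groth.Agent.Coh.K415.LerayGen

/-!
# Surfaces over a curve of genus one: existence of a transversal curve of square zero

`X` smooth proper integral surface over an algebraically closed field, with an ample class, numerically trivial
canonical class, `χ(O) = 0` and no curves of negative square, with a dominant map to a curve of genus one.  Then there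
is a curve `D` with `D² = 0` which is not a fibre curve.
-/

set_option autoImplicit false
set_option linter.unusedSectionVars false
universe u
open CategoryTheory CategoryTheory.Limits AlgebraicGeometry TopologicalSpace

namespace K457.NTExist

open Groth.Agent Groth.Agent.Grpsch.PicGrp K464.Base K464.Curves K464.Comp K463.HC K457.NTHq K457.NTCore
open K464.DegCurve K464.PtCurve K464.FibCurve Groth.Agent.VarietyA.DegRank K707.Base K707.Deg K707.Slope K705.Gen1

local notation "Sp" k:max => Spec (CommRingCat.of k)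

section fib

variable (k : Type u) [Field k] [IsAlgClosed k] {X : Scheme.{u}} [X.Over (Sp k)] [IsProper (X ↘ (Sp k))]
  [Smooth (X ↘ (Sp k))] [IsIntegral X] (hdim : topologicalKrullDim X = 2)
  {H : X.Modules} (hH : CohB1.IsAmple H)
  {E : Scheme.{u}} [E.Over (Sp k)] [IsIntegral E] [IsProper (E ↘ (Sp k))] [Smooth (E ↘ (Sp k))]
  (hE1 : topologicalKrullDim E = 1)
  (f : X ⟶ E) (hf : f ≫ (E ↘ (Sp k)) = X ↘ (Sp k)) [Surjective f]
  {p : Pic E} (hp : degC k E p = 1)

omit [IsAlgClosed k] [IsProper (E ↘ (Sp k))] in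
include k in
theorem hreg (b : E) : IsRegularLocalRing (E.presheaf.stalk b) := S1535.result k E b

include hdim hE1 hf hp in
theorem dot_pull' (A : Pic E) (c : Pic X) : dot k X (pull f A) c = degC k E A * dot k X (pull f p) c := by
  obtain ⟨N, hN, rfl⟩ := exists_mk c
  rw [dot_pull k f hf hdim.le hE1 (hreg k) A hN, dot_pull k f hf hdim.le hE1 (hreg k) p hN, hp, one_mul]

include hdim hE1 hf in
theorem dot_pp (A A' : Pic E) : dot k X (pull f A) (pull f A') = 0 :=
  dot_pull_pull k f hf hdim.le hE1 (hreg k) A A'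

include hdim hH hE1 hf hp in
theorem fib_pos : 0 < dot k X (pull f p) (mk H hH.1) := by
  have : AlgebraicGeometry.IsNoetherian E := CurvesB.CurveRR.isNoetherian_of_proper k E
  obtain ⟨b, -, hb⟩ := (isClosed_univ (X := E)).exists_closed_singleton Set.univ_nonempty
  have hE := isEff_pt k (E ↘ (Sp k)) hE1 (hreg k) hb
  have hF : BlowUp.IsEffCartierIdeal ((pt hb).comap f) := isEff_fibre f hE1 hb hE
  have h1 := dot_pull' k hdim hE1 f hf hp (ic (pt hb) hE) (mk H hH.1)
  rw [degC_pt k hE1 hb hE, pull_ic f hE hF] at h1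
  have h2 := K463.RRd.dot_ic_neg_of_ample_eff k hdim hF (fun h => by
    obtain ⟨x, hx⟩ := f.surjective b
    have h3 : x ∈ ((pt hb).comap f).support := by
      rw [Scheme.IdealSheafData.support_comap]
      change f x ∈ (pt hb).support
      rw [mem_support_pt, hx]
    rw [h, Scheme.IdealSheafData.support_top] at h3
    exact h3) hH.1 hH
  rw [h1] at h2
  linarith

end fib

section push

variable {k : Type u} [Field k] {X : Scheme.{u}} [X.Over (Sp k)] [IsProper (X ↘ (Sp k))] [IsIntegral X]
  {E : Scheme.{u}} [E.Over (Sp k)] [IsIntegral E] [IsProper (E ↘ (Sp k))]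
  (f : X ⟶ E) (hf : f ≫ (E ↘ (Sp k)) = X ↘ (Sp k)) [IsDominant f] [IsProper f]

theorem isZero_tensor {X : Scheme.{u}} {A B : X.Modules} (h : IsZero B) : IsZero (CohB1.tensorMod A B) := by
  have h1 : IsZero ((DCoh.tensorBi.obj A).obj B) := Functor.map_isZero _ h
  exact h1

/-- If `M ⊗ f^*N` has sections then `f_* M ≠ 0`. -/
theorem push_ne_zero (hf : f ≫ (E ↘ (Sp k)) = X ↘ (Sp k)) {M : X.Modules} (hM : PicF.IsInvertible M) {N : E.Modules}
    (hN : PicF.IsInvertible N) (h : 0 < hc k X 0 (mk M hM * pull f (mk N hN))) :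
    ¬ IsZero ((Scheme.Modules.pushforward f).obj M) := by
  intro hz
  have e := VarietyB.ProjForm.projIso f
    (VarietyB.TensCoh.HasBases.of_isFinLocFreeOfRank (Ega2.QCohLocal.isFinLocFreeOfRank_one_iff.mpr hN)) M
  have h1 : IsZero (CohB1.tensorMod N ((Scheme.Modules.pushforward f).obj M)) := isZero_tensor hz
  have h2 := Fga.IntNum0.HH_subsingleton_of_isZero (h1.of_iso e.symm) 0
  have h3 : Module.finrank k (Coh.HH E ((Scheme.Modules.pushforward f).obj
      (CohB1.tensorMod ((Scheme.Modules.pullback f).obj N) M)) 0) =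
      Module.finrank k (Coh.HH X (CohB1.tensorMod ((Scheme.Modules.pullback f).obj N) M) 0) :=
    (VarietyB.HHPush.zeroEquiv f k hf (CohB1.tensorMod ((Scheme.Modules.pullback f).obj N) M)).finrank_eq
  rw [Module.finrank_zero_of_subsingleton] at h3
  rw [pull_mk, mul_comm, mk_mul_mk, hc_mk, ← h3] at h
  exact lt_irrefl _ h

/-- The Euler characteristic of the direct image of a module with `h⁰ = h¹` on the source is nonnegative. -/
theorem euler_nonneg (C : Crv k E) (hf : f ≫ (E ↘ (Sp k)) = X ↘ (Sp k)) {M : X.Modules} (hM : PicF.IsInvertible M)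
    (h : hc k X 1 (mk M hM) ≤ hc k X 0 (mk M hM)) : 0 ≤ Curv2.euler k E ((Scheme.Modules.pushforward f).obj M) := by
  rw [K705.Setup.euler_eq C]
  have h0 := (VarietyB.HHPush.zeroEquiv f k hf M).finrank_eq
  obtain ⟨φ, hφ⟩ := K415.LerayGen.exists_injective_one f k hf M
  have := finite_HH k X hM 1
  have h1 := LinearMap.finrank_le_finrank_of_injective hφ
  rw [hc_mk, hc_mk] at h
  have h2 : Module.finrank k (Coh.HH E ((Scheme.Modules.pushforward f).obj M) 0) =
    Module.finrank k (Coh.HH X M 0) := h0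
  omega

/-- **The direct image contains an invertible module of nonnegative degree.** -/
theorem exists_hom [IsAlgClosed k] (g : G1 k E) (hf : f ≫ (E ↘ (Sp k)) = X ↘ (Sp k)) {M : X.Modules}
    (hM : PicF.IsInvertible M)
    (h : hc k X 1 (mk M hM) ≤ hc k X 0 (mk M hM)) {n : Pic E} (hn : 0 < hc k X 0 (mk M hM * pull f n)) :
    ∃ b : Pic E, 0 ≤ degC k E b ∧ 0 < hc k X 0 (mk M hM * (pull f b)⁻¹) := by
  obtain ⟨N, hN, rfl⟩ := exists_mk n
  set V := (Scheme.Modules.pushforward f).obj M with hV
  obtain ⟨hVc, hVf⟩ := NTNorm.vb_push g.crv f hM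
  have hVz := push_ne_zero f hf hM hN hn
  have hrk : 0 < rk V := by
    rw [Nat.pos_iff_ne_zero]
    intro h0
    exact hVz (isZero_of_rk_eq_zero g.crv hVf h0)
  have hd : 0 ≤ dg k V := by
    rw [← g.euler]
    exact euler_nonneg f g.crv hf hM h
  obtain ⟨L, u, hL, hu, hLd⟩ : ∃ (L : E.Modules) (u : L ⟶ V), PicF.IsInvertible L ∧ u ≠ 0 ∧ 0 ≤ dg k L := by
    rcases hd.eq_or_lt with h0 | h0
    · exact K705.Gen1Iff.exists_inv_hom g hVf hrk h0.symm
    · have h1 := K705.Setup.euler_eq g.crv V
      rw [g.euler] at h1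
      have h2 : 0 < Module.finrank k (Coh.HH E V 0) := by omega
      have h3 := Module.nontrivial_of_finrank_pos h2
      obtain ⟨x, hx⟩ := exists_ne (0 : Coh.HH E V 0)
      refine ⟨Coh.structureModule E, (Dcoh.FinLocFree.unitEquiv V).symm (CurvesB.HZero.equivAdd V x),
        Fdesc.LocGen.isInvertible_structureModule, ?_, ?_⟩
      · rwa [Ne, (Dcoh.FinLocFree.unitEquiv V).symm.map_eq_zero_iff, (CurvesB.HZero.equivAdd V).map_eq_zero_iff]
      · rw [dg_of_rank k (Ega2.QCohLocal.isFinLocFreeOfRank_one_iff.mpr Fdesc.LocGen.isInvertible_structureModule),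
          Dix.InterNum.deg_unit]
  refine ⟨mk L hL, ?_, ?_⟩
  · rw [degC_mk, ← dg_of_rank k (Ega2.QCohLocal.isFinLocFreeOfRank_one_iff.mpr hL)]
    exact hLd
  · let adj := Scheme.Modules.pullbackPushforwardAdjunction f
    have := NTHom.hc_pos_of_hom k (Fdesc.LocGen.isInvertible_pullback f hL) hM ((adj.homEquiv L M).symm u) (by
      intro h0
      apply hu
      have : u = adj.homEquiv L M 0 := by rw [← h0, Equiv.apply_symm_apply]
      rw [this, Adjunction.homEquiv_unit, Functor.map_zero, comp_zero])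
    rwa [pull_mk]

end push

end K457.NTExist
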