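import Groth.Agent.Surf.K457.NT.Exist
import Groth.Agent.Surf.K457.NT.Core2
import Groth.Agent.Surf.K457.Total

/-!
# Surfaces over a curve of genus one: existence of a transversal curve of square zero, II
-/

set_option autoImplicit false
set_option linter.unusedSectionVars false
universe u
open CategoryTheory CategoryTheory.Limits AlgebraicGeometry TopologicalSpace

namespace K457.NTExist

open Groth.Agent Groth.Agent.Grpsch.PicGrp K464.Base K464.Curves K464.Comp K463.HC K457.NTHq K457.NTCore
open K464.DegCurve K705.Gen1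

local notation "Sp" k:max => Spec (CommRingCat.of k)

variable (k : Type u) [Field k] [IsAlgClosed k] {X : Scheme.{u}} [X.Over (Sp k)] [IsProper (X ↘ (Sp k))]
  [Smooth (X ↘ (Sp k))] [IsIntegral X] (hdim : topologicalKrullDim X = 2)
  {W : X.Modules} (hW : ExtPow.IsExtPow 2 (Omega.sheaf (X ↘ (Sp k))) W) (hWi : PicF.IsInvertible W)
  {H : X.Modules} (hH : CohB1.IsAmple H)
  (hnum : ∀ a : Pic X, dot k X a (mk W hWi) = 0) (hchi : chi k X 1 = 0)
  {E : Scheme.{u}} [E.Over (Sp k)] [IsIntegral E] [IsProper (E ↘ (Sp k))] (g : G1 k E)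
  (f : X ⟶ E) (hf : f ≫ (E ↘ (Sp k)) = X ↘ (Sp k)) [Surjective f]
  {p : Pic E} (hp : degC k E p = 1)
  (hC0 : ∀ (C : X.IdealSheafData) (_ : IsCurve C) (hE : BlowUp.IsEffCartierIdeal C),
      0 ≤ dot k X (ic C hE) (ic C hE))

include hdim hH hC0 in
/-- An isotropic class positive against an ample class is nef. -/
theorem nef_of_isotropic {a : Pic X} (haa : dot k X a a = 0) (hah : 0 < dot k X a (mk H hH.1))
    (C : X.IdealSheafData) (hC : IsCurve C) : 0 ≤ degOn k X C a := by
  have hd : topologicalKrullDim X ≤ (2 : ℕ) := hdim.le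
  have hE := isEff_of_smooth k hdim hC
  have h1 := nonneg_of_isotropic k hdim hH haa hah (c := (ic C hE)⁻¹)
    (by rw [dot_inv_inv k X hd]; exact hC0 C hC hE) (dot_inv_ic_pos k hdim hH hC hE)
  rw [dot_inv_right k X hd, dot_comm k X a, dot_ic_eq, neg_neg] at h1
  exact h1

include hdim hH hC0 in
theorem nef_eff_of_isotropic {a : Pic X} (haa : dot k X a a = 0) (hah : 0 < dot k X a (mk H hH.1))
    {G : X.IdealSheafData} (hG : BlowUp.IsEffCartierIdeal G) : 0 ≤ degOn k X G a := by
  obtain ⟨s, hs, rfl⟩ := K463.NumConn.exists_multiset k hdim G hG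
  rw [K463.NumConn.degOn_prod_multiset k hdim s hs]
  refine Multiset.sum_nonneg fun x hx => ?_
  obtain ⟨C, hC, rfl⟩ := Multiset.mem_map.1 hx
  exact nef_of_isotropic k hdim hH hC0 haa hah C (hs C hC)

include hdim hW hH hnum hchi in
/-- Cohomology of classes positive against an ample class. -/
theorem chi_eq_half {a : Pic X} (hah : 0 < dot k X a (mk H hH.1)) :
    2 * ((hc k X 0 a : ℤ) - hc k X 1 a) = dot k X a a := by
  have hd : topologicalKrullDim X ≤ (2 : ℕ) := hdim.le
  have h2 : hc k X 2 a = 0 := by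
    rw [K463.RRd.hc_dual k hdim hW hWi a 0 2 rfl]
    refine K463.RRd.hc_zero_eq_zero k hdim hH.1 hH ?_
    rw [dot_mul_left k X hd, dot_inv_left k X hd, dot_comm, hnum]
    linarith
  have h3 := chi_eq k X hdim.le a
  have h4 := K463.RRd.rr k hdim hW hWi a
  rw [hnum, hchi] at h4
  rw [h2] at h3
  rw [h3] at h4
  push_cast at h4
  linarith

include hdim hW hH hnum hchi g hf hp hC0 in
/-- **Existence of a transversal curve of square zero.** -/
theorem exists_curve : ∃ (D : X.IdealSheafData) (_ : IsCurve D) (hE : BlowUp.IsEffCartierIdeal D),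
    dot k X (ic D hE) (ic D hE) = 0 ∧ 0 < degOn k X D (pull f p) := by
  have := g.smooth
  have hd : topologicalKrullDim X ≤ (2 : ℕ) := hdim.le
  have hhh : 0 < dot k X (mk H hH.1) (mk H hH.1) := K464.Ample.dot_pos_of_ample k hdim hH.1 hH.1 hH hH
  have hu : 0 < dot k X (pull f p) (mk H hH.1) := fib_pos k hdim hH g.dim f hf hp
  have hpp : dot k X (pull f p) (pull f p) = 0 := dot_pp k hdim g.dim f hf p p
  set φ := pull f p with hφ
  set h := mk H hH.1 with hh
  set u := dot k X φ h with hu'
  set v := dot k X h h with hv'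
  -- the isotropic class
  set a : Pic X := h ^ (2 * u) * φ ^ (-v) with ha
  have haa : dot k X a a = 0 := by
    simp only [ha, dot_mul_left k X hd, dot_mul_right k X hd, dot_zpow_left k X hd, dot_zpow_right k X hd]
    rw [hpp, dot_comm k X h φ, ← hu', ← hv']
    ring
  have haφ : dot k X a φ = 2 * u * u := by
    simp only [ha, dot_mul_left k X hd, dot_zpow_left k X hd]
    rw [hpp, dot_comm k X h φ, ← hu']
    ring
  have hah : dot k X a h = u * v := by
    simp only [ha, dot_mul_left k X hd, dot_zpow_left k X hd]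
    rw [← hu', ← hv']
    ring
  have hah' : 0 < dot k X a h := by rw [hah]; positivity
  have huu : 0 < 2 * u * u := by positivity
  obtain ⟨M, hM, hMa⟩ := exists_mk a
  have h1 : hc k X 1 a ≤ hc k X 0 a := by
    have := chi_eq_half k hdim hW hWi hH hnum hchi hah'
    rw [haa] at this
    omega
  have h2 : 0 < hc k X 0 (a * φ) := by
    have h3 : 0 < dot k X (a * φ) h := by
      rw [dot_mul_left k X hd]
      linarith
    have h4 := chi_eq_half k hdim hW hWi hH hnum hchi h3
    have h5 : dot k X (a * φ) (a * φ) = 2 * (2 * u * u) := by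
      simp only [dot_mul_left k X hd, dot_mul_right k X hd]
      rw [haa, hpp, dot_comm k X φ a, haφ]
      ring
    omega
  have := K464.FibCurve.isProper k f hf
  rw [hMa] at h1 h2
  obtain ⟨b, hb0, hb⟩ := exists_hom f g hf hM h1 h2
  rw [← hMa] at hb
  obtain ⟨G, hG, hGe⟩ := exists_div k hb
  have hGdeg : ∀ c, degOn k X G c = dot k X a c - degC k E b * dot k X φ c := by
    intro c
    rw [degOn_eq_neg_dot k X hG, ← dot_inv_left k X hd, ← hGe, dot_mul_left k X hd, dot_inv_left k X hd,
      dot_pull' k hdim g.dim f hf hp b c]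
    ring
  have hGa := hGdeg a
  rw [haa, dot_comm k X φ a, haφ] at hGa
  have hGa' := nef_eff_of_isotropic k hdim hH hC0 haa hah' hG
  have hGa0 : degOn k X G a = 0 := by
    have : 0 ≤ degC k E b * (2 * u * u) := by positivity
    linarith
  have hGφ : 0 < degOn k X G φ := by
    rw [hGdeg, hpp, haφ]
    linarith
  obtain ⟨C, -, hC, hCE, -, -, hCφ, hCC⟩ := exists_comp k hdim hH (φ := φ) haa hah'
    (nef_of_isotropic k hdim hH hC0 haa hah') hC0 hG hGa0 hGφ
  exact ⟨C, hC, hCE, hCC, hCφ⟩

include hf in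
/-- The classes coming from the base have degree zero on curves that do not dominate the base. -/
theorem degOn_pull_of_not_dominant (hE1 : topologicalKrullDim E = 1) {C : X.IdealSheafData} (hC : IsCurve C)
    (h : ¬ IsDominant (C.subschemeι ≫ f)) (b : Pic E) : degOn k X C (pull f b) = 0 := by
  have hne : f (gp hC) ≠ genericPoint E := by
    intro h1
    apply h
    have := hC.integral
    refine ⟨?_⟩
    have h2 : genericPoint E ∈ Set.range (C.subschemeι ≫ f) := ⟨genericPoint C.subscheme, by
      rw [← h1, gp, Scheme.Hom.comp_apply]⟩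
    rw [DenseRange, dense_iff_closure_eq]
    refine Set.eq_univ_of_univ_subset ?_
    rw [← (genericPoint_spec E).def]
    exact closure_mono (Set.singleton_subset_iff.mpr h2)
  have hcl := K464.PtCurve.isClosed_of_ne hE1 hne
  refine K457.Total.degOn_pull_eq_zero k f C (T := {f (gp hC)}) (Set.finite_singleton _) ?_ ?_ b
  · rintro x rfl
    exact hcl
  · intro y hy
    have h1 : y ∈ closure {gp hC} := by
      rw [closure_gp]
      exact hy
    have h2 : f y ∈ closure (f '' {gp hC}) := image_closure_subset_closure_image f.continuous ⟨y, h1, rfl⟩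
    rwa [Set.image_singleton, hcl.closure_eq] at h2

include hdim hW hH hnum hchi g hf hp hC0 in
/-- **The theorem**: a numerically trivial canonical class, some power of which comes from a curve of genus one, is
torsion. -/
theorem main {m : ℕ} (hm : 0 < m) {w₀ : Pic E} (hw : mk W hWi ^ m = pull f w₀) :
    ∃ n : ℕ, 0 < n ∧ mk W hWi ^ n = 1 := by
  by_contra hcon
  push Not at hcon
  have := g.smooth
  obtain ⟨D, hD, hE, hDD, hDφ⟩ := exists_curve k hdim hW hWi hH hnum hchi g f hf hp hC0
  refine NTCore2.core k hdim hW hWi hH hnum hchi hcon (φ := pull f p) ?_ hC0 hD hE hDD hDφ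
  intro C hC hCφ n hn
  by_contra h0
  have h1 : pull C.subschemeι (mk W hWi ^ n) = 1 := pull_eq_one k hC (by
    rw [degOn_eq_neg_dot k X (isEff_of_smooth k hdim hC), dot_zpow_right k X hdim.le, hnum]
    simp) (Nat.pos_of_ne_zero h0)
  have hdom : IsDominant (C.subschemeι ≫ f) := by
    by_contra h2
    rw [degOn_pull_of_not_dominant k f hf g.dim hC h2] at hCφ
    exact lt_irrefl _ hCφ
  have hCi : IsIntegral C.subscheme := hC.1
  have h2 : pull (C.subschemeι ≫ f) (w₀ ^ n) = 1 := by
    rw [pull_comp, map_zpow (pull f), ← hw, ← zpow_natCast, ← zpow_mul, mul_comm, zpow_mul, map_zpow, h1, one_zpow]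
  have := K464.FibCurve.isProper k f hf
  obtain ⟨d, hd, h3⟩ := NTNorm.pow_eq_one g.crv (C.subschemeι ≫ f) h2
  have h4 : mk W hWi ^ (m * (n * d)) = 1 := by
    rw [zpow_mul, zpow_natCast, hw, ← map_zpow, zpow_mul, zpow_natCast, h3, map_one]
  exact hcon ((m : ℤ) * (n * d)).natAbs (by positivity) (pow_natAbs_eq_one.2 h4)

end K457.NTExist
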