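import Groth.Agent.Surf.K463.RRd
import Groth.Agent.Surf.K463.NumSec
import Groth.Agent.Surf.K461.Neg
import Groth.Agent.Surf.K464.DegCurve

/-!
# Cohomology of restrictions to curves, on the Picard group

`hq k D i a = h^i(D, a|_D)`; the inequalities from `0 → a(-D) → a → a|_D → 0`; triviality of restrictions.
-/

set_option autoImplicit false
set_option linter.unusedSectionVars false
universe u
open CategoryTheory CategoryTheory.Limits AlgebraicGeometry TopologicalSpace

namespace K457.NTHq

open Groth.Agent Groth.Agent.Grpsch.PicGrp K464.Base K464.Curves K464.Comp K463.HC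
open Groth.Agent.Fdesc.LocGen

local notation "Sp" k:max => Spec (CommRingCat.of k)

section defs

variable (k : Type u) [Field k] {X : Scheme.{u}} [X.Over (Sp k)]

/-- `h^i(D, a|_D)`. -/
noncomputable def hq (D : X.IdealSheafData) (i : ℕ) (a : Pic X) : ℕ :=
  letI := overC k X D
  hc k D.subscheme i (pull D.subschemeι a)

theorem hq_mk (D : X.IdealSheafData) (i : ℕ) {L : X.Modules} (hL : PicF.IsInvertible L) :
    hq k D i (mk L hL) = Module.finrank k (Coh.HH X (CohB1.tensorMod L (ClSub.quotMod D)) i) := by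
  letI := overC k X D
  unfold hq
  rw [pull_mk, hc_mk]
  obtain ⟨e⟩ := K461.Neg.restr_equiv k D hL i
  exact e.finrank_eq

theorem hq_one (D : X.IdealSheafData) (i : ℕ) :
    hq k D i 1 = Module.finrank k (Coh.HH X (ClSub.quotMod D) i) := by
  letI := overC k X D
  unfold hq
  rw [map_one, hc_one]
  obtain ⟨e⟩ := K461.Neg.restr_equiv_unit k D i
  exact e.finrank_eq

theorem hq_mul_of_pull (D : X.IdealSheafData) (i : ℕ) (a b : Pic X) (h : pull D.subschemeι a = 1) :
    hq k D i (b * a) = hq k D i b := by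
  unfold hq
  rw [map_mul, h, mul_one]

end defs

section les

open Groth.Agent.Pic13.H11 Groth.Agent.Pic13.H11.Cls Groth.Agent.Fga.PicMon

variable (k : Type u) [Field k] {X : Scheme.{u}} [X.Over (Sp k)] [IsProper (X ↘ (Sp k))]
  {D : X.IdealSheafData} (hD : BlowUp.IsEffCartierIdeal D)

omit [IsProper (X ↘ (Sp k))] in
theorem hc_mul_ic {L : X.Modules} (hL : PicF.IsInvertible L) (i : ℕ) :
    hc k X i (mk L hL * ic D hD) = Cls.h k i (Cls.unit hL • mc (ClSub.idealMod D)) := by
  unfold ic
  rw [mk_mul_mk, hc_mk, unit_smul, h_mc]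

omit [IsProper (X ↘ (Sp k))] in
theorem hq_eq_h {L : X.Modules} (hL : PicF.IsInvertible L) (i : ℕ) :
    hq k D i (mk L hL) = Cls.h k i (Cls.unit hL • mc (ClSub.quotMod D)) := by
  rw [hq_mk, unit_smul, h_mc]

omit [IsProper (X ↘ (Sp k))] in
theorem hc_eq_h {L : X.Modules} (hL : PicF.IsInvertible L) (i : ℕ) :
    hc k X i (mk L hL) = Cls.h k i ((Cls.unit hL : (MC X)ˣ) : MC X) := by
  rw [hc_mk, unit_val, h_mc]

theorem les₂ (a : Pic X) (i : ℕ) : hc k X i a ≤ hc k X i (a * ic D hD) + hq k D i a := by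
  have := K461.Neg.isNoetherian (X := X) k
  obtain ⟨L, hL, rfl⟩ := exists_mk a
  rw [hc_mul_ic, hq_eq_h, hc_eq_h]
  exact (K461.Neg.ses_twist D (Cls.unit hL)).h_le k i

theorem les₃ (a : Pic X) (i : ℕ) : hq k D i a ≤ hc k X i a + hc k X (i + 1) (a * ic D hD) := by
  have := K461.Neg.isNoetherian (X := X) k
  obtain ⟨L, hL, rfl⟩ := exists_mk a
  rw [hc_mul_ic, hq_eq_h, hc_eq_h]
  exact (K461.Neg.ses_twist D (Cls.unit hL)).h_right_le k i

theorem les₁ (a : Pic X) (i : ℕ) : hc k X (i + 1) (a * ic D hD) ≤ hq k D i a + hc k X (i + 1) a := by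
  have := K461.Neg.isNoetherian (X := X) k
  obtain ⟨L, hL, rfl⟩ := exists_mk a
  rw [hc_mul_ic, hq_eq_h, hc_eq_h]
  exact (K461.Neg.ses_twist D (Cls.unit hL)).h_left_le k i

end les

section curve

variable (k : Type u) [Field k] {X : Scheme.{u}} [X.Over (Sp k)] [IsProper (X ↘ (Sp k))]
  {C : X.IdealSheafData} (hC : IsCurve C)

include hC in
theorem chi_hq (a : Pic X) :
    (hq k C 0 a : ℤ) - hq k C 1 a = degOn k X C a + Curv2.euler k X (ClSub.quotMod C) := by
  obtain ⟨L, hL, rfl⟩ := exists_mk a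
  have h1 := K464.Cohom.euler_quot_tensor_eq k C hC.dim.le hL
  rw [degOn_mk, hq_mk, hq_mk, K464.Cohom.finrank_congr k (Ega2.Tens.swap L (ClSub.quotMod C)) 0,
    K464.Cohom.finrank_congr k (Ega2.Tens.swap L (ClSub.quotMod C)) 1]
  linarith

include hC in
theorem hq_zero_one [IsAlgClosed k] : hq k C 0 1 = 1 := by
  letI := overC k X C
  have := isProper_sub k X C
  have := hC.integral
  unfold hq
  rw [map_one, hc_one]
  exact VarietyA.CurveFin.finrank_h0_structure k C.subscheme

include hC in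
/-- A class of degree at most zero with a nonzero section on a curve is trivial on the curve. -/
theorem pull_eq_one {a : Pic X} (hdeg : degOn k X C a ≤ 0) (h : 0 < hq k C 0 a) : pull C.subschemeι a = 1 := by
  letI := overC k X C
  have := isProper_sub k X C
  have := hC.integral
  obtain ⟨L, hL, rfl⟩ := exists_mk a
  unfold hq at h
  rw [pull_mk, hc_mk] at h
  have hfin := finite_HH k C.subscheme (isInvertible_pullback C.subschemeι hL) 0
  have hn : Nontrivial (Coh.HH C.subscheme ((Scheme.Modules.pullback C.subschemeι).obj L) 0) :=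
    (Module.finrank_pos_iff (R := k)).mp h
  obtain ⟨s, hs⟩ := K456.SecTriv.exists_ne_zero_of_nontrivial hn
  have hg := K463.NumSec.isGen_curve k hC hL hdeg s hs
  have h1 : IsIso (homOf s) := by
    rw [isIso_iff_isGen]
    simpa using hg
  rw [pull_mk, mk_eq_one_iff]
  exact ⟨(asIso (homOf s)).symm⟩

end curve

end K457.NTHq
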