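import Groth.Agent.Surf.K457.NT.Exist2
import Groth.Agent.Surf.K457.NT.Desc
import Groth.Agent.Biell.K856.Main3
import Groth.Agent.Biell.K856.SelfInt
import Groth.Agent.Biell.K856.Noether2
import Groth.Agent.Biell.K856.Betti1
import Groth.Agent.Surf.K456.AmpleEx
import Groth.Agent.Variety.K658.RelDimComp
import Groth.Agent.S4277

/-!
# Surfaces with numerically trivial canonical class: the canonical class is torsion
-/

set_option autoImplicit false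
set_option linter.unusedSectionVars false
universe u
open CategoryTheory CategoryTheory.Limits AlgebraicGeometry TopologicalSpace

namespace K457.NTMain

open Groth.Agent Groth.Agent.Grpsch.PicGrp K464.Base K464.Curves K464.Comp K463.HC
open Groth.Agent.Pic13.H138.AlgEquiv

local notation "Sp" k:max => Spec (CommRingCat.of k)

theorem arith {q g b2 : ℕ} {c : ℤ} (h1 : c = 1 - q) (h2 : c ≤ 0) (h3 : 12 * c = 2 - 2 * (2 * g) + b2) (hg : g ≤ q)
    (_ : 1 ≤ b2) : c = 0 ∧ g = 1 ∧ b2 = 2 := by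
  omega

section

variable (k : Type u) [Field k] [IsAlgClosed k] {X : Scheme.{u}} [X.Over (Sp k)] [IsProper (X ↘ (Sp k))]
  [Smooth (X ↘ (Sp k))] [IsIntegral X] (hdim : topologicalKrullDim X = 2)
  {W : X.Modules} (hW : ExtPow.IsExtPow 2 (Omega.sheaf (X ↘ (Sp k))) W) (hWi : PicF.IsInvertible W)
  {H : X.Modules} (hH : CohB1.IsAmple H)
  (hnum : ∀ a : Pic X, dot k X a (mk W hWi) = 0)
  (hnt : ∀ n : ℕ, 0 < n → mk W hWi ^ n ≠ 1)

include hdim hW hH hnum hnt in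
/-- `χ(O) = 1 - q ≤ 0`. -/
theorem chi_one_eq : chi k X 1 = 1 - hc k X 1 1 ∧ chi k X 1 ≤ 0 := by
  have hd : topologicalKrullDim X ≤ (2 : ℕ) := hdim.le
  have h1 := chi_eq k X hd 1
  have h2 : hc k X 2 1 = 0 := by
    rw [K463.RRd.hc_dual k hdim hW hWi 1 0 2 rfl, inv_one, mul_one, ← zpow_one (mk W hWi)]
    exact NTCore2.hc0_zpow k hdim hWi hH hnum hnt one_ne_zero
  rw [K463.RRd.hc_zero_one k, h2] at h1
  refine ⟨by rw [h1]; push_cast; ring, ?_⟩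
  have h3 := K463.RRd.rr k hdim hW hWi (mk W hWi ^ (2 : ℤ))
  rw [hnum, dot_zpow_right k X hd, hnum] at h3
  have h4 := chi_eq k X hd (mk W hWi ^ (2 : ℤ))
  rw [NTCore2.hc0_zpow k hdim hWi hH hnum hnt two_ne_zero,
    NTCore2.hc2_zpow k hdim hW hWi hH hnum hnt (by norm_num)] at h4
  push_cast at h4
  have h5 : (0 : ℤ) ≤ hc k X 1 (mk W hWi ^ (2 : ℤ)) := by positivity
  linarith

end

/-- **The integral case over an algebraically closed field.** -/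
theorem main_of (k : Type u) [Field k] [IsAlgClosed k] (X : Scheme.{u}) [X.Over (Sp k)] [IsIntegral X]
    [IsProper (X ↘ (Sp k))] [SmoothOfRelativeDimension 2 (X ↘ (Sp k))] (W : X.Modules)
    (hW : ExtPow.IsExtPow 2 (Omega.sheaf (X ↘ (Sp k))) W) (hWi : PicF.IsInvertible W)
    (hnum : _root_.Pic13.IsNumEquivZero k X W)
    (hfin : ∀ ℓ : ℕ, ℓ.Prime → (ℓ : k) ≠ 0 → ∀ i, Finite (EtAdic.Hmod X ℓ i 1))
    (hB : ∀ ℓ : ℕ, ℓ.Prime → (ℓ : k) ≠ 0 → (2 : ℤ) - 2 * (EtAdic.betti X ℓ 1 : ℤ) + (EtAdic.betti X ℓ 2 : ℤ) =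
      Curv2.euler k X (Coh.structureModule X) - Curv2.euler k X (Omega.sheaf (X ↘ (Sp k))) + Curv2.euler k X W) :
    ∃ d : ℕ, 0 < d ∧ mk W hWi ^ d = 1 := by
  by_contra hnt
  push Not at hnt
  have hsm : Smooth (X ↘ (Sp k)) := SmoothOfRelativeDimension.smooth 2 _
  have hdim : topologicalKrullDim X = 2 := K658.RelDimComp.topologicalKrullDim_eq 2 (X ↘ (Sp k))
  have hd : topologicalKrullDim X ≤ (2 : ℕ) := hdim.le
  have hHex := K456.AmpleEx.exists_ample k X hdim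
  obtain ⟨H, hH⟩ := hHex
  have hnum' : ∀ a : Pic X, dot k X a (mk W hWi) = 0 := K856.Num.dot_eq_zero k hdim ⟨H, hH⟩ hWi hnum
  obtain ⟨h1, h2⟩ := chi_one_eq k hdim hW hWi hH hnum' hnt
  have hno := K856.Noether.noether k X ⟨H, hH⟩ hW hWi
  rw [hnum', zero_add] at hno
  obtain ⟨D⟩ := K856.PicA.nonempty_pz k X ⟨H, hH⟩
  obtain ⟨g, hg, hgq⟩ := D.exists_dim
  have hb1 : ∀ ℓ : ℕ, ℓ.Prime → (ℓ : k) ≠ 0 → EtAdic.betti X ℓ 1 = 2 * g := by
    intro ℓ hℓ hℓk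
    have : Fact ℓ.Prime := ⟨hℓ⟩
    exact K856.Betti1.betti_one D ℓ hℓk (hfin ℓ hℓ hℓk) g hg
  have h12 : ∀ ℓ : ℕ, ℓ.Prime → (ℓ : k) ≠ 0 → 12 * chi k X 1 = 2 - 2 * (2 * g) + (EtAdic.betti X ℓ 2 : ℤ) := by
    intro ℓ hℓ hℓk
    rw [chi_one, hno, ← hB ℓ hℓ hℓk, hb1 ℓ hℓ hℓk]
    push_cast
    ring
  have hhh : 0 < dot k X (mk H hH.1) (mk H hH.1) := K464.Ample.dot_pos_of_ample k hdim hH.1 hH.1 hH hH
  obtain ⟨ℓ, hℓ, hℓk, hℓ2⟩ := K856.PicRank.rank_le_betti k X hd (r := 1) (fun _ => mk H hH.1) (by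
    rw [Matrix.det_fin_one]
    exact hhh.ne')
  have hq : hc k X 1 1 = Module.finrank k (Coh.HH X (Coh.structureModule X) 1) := rfl
  rw [← hq] at hgq
  obtain ⟨hchi, hg1, -⟩ := arith h1 h2 (h12 ℓ hℓ hℓk) hgq (hℓ2 (hfin ℓ hℓ hℓk))
  subst hg1
  have hb2 : ∀ ℓ : ℕ, ℓ.Prime → (ℓ : k) ≠ 0 → EtAdic.betti X ℓ 2 = 2 := by
    intro ℓ hℓ hℓk
    have := h12 ℓ hℓ hℓk
    rw [hchi] at this
    omega
  have hrank : ∀ L : Fin 3 → Pic X, (Matrix.of fun i j => dot k X (L i) (L j)).det = 0 := by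
    intro L
    by_contra hdet
    obtain ⟨ℓ, hℓ, hℓk, hℓ2⟩ := K856.PicRank.rank_le_betti k X hd L hdet
    have h3 := hℓ2 (hfin ℓ hℓ hℓk)
    rw [hb2 ℓ hℓ hℓk] at h3
    omega
  obtain ⟨E, _, f, hf, hE, happ, halg, hE1⟩ := K856.Main3.exists_fibration D (by exact_mod_cast hg)
  obtain ⟨hEp, hEs, hEi, hEd⟩ := id hE
  have hfp := K464.FibCurve.isProper k f hf
  have hsurj := K856.FibCls.surjective_of_isIso f happ
  have hC0 : ∀ (C : X.IdealSheafData) (_ : IsCurve C) (hE : BlowUp.IsEffCartierIdeal C),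
      0 ≤ dot k X (ic C hE) (ic C hE) := by
    intro C hC hCe
    exact K856.SelfInt.nonneg k hdim ⟨H, hH⟩ hW hnum hrank f hf hE (by rw [hE1]; exact one_ne_zero) hsurj hC hCe
  have hG : K705.Gen1.G1 k E := ⟨hEd, hEs, hE1, VarietyA.CurveFin.finrank_h0_structure k E⟩
  have : Surjective f := ⟨hsurj⟩
  -- a class of degree one
  have hNE : AlgebraicGeometry.IsNoetherian E := CurvesB.CurveRR.isNoetherian_of_proper k E
  obtain ⟨b, -, hb⟩ := (isClosed_univ (X := E)).exists_closed_singleton Set.univ_nonempty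
  have hbE := K464.PtCurve.isEff_pt k (E ↘ (Sp k)) hEd (NTExist.hreg k) hb
  have hp : K464.DegCurve.degC k E (ic (K464.PtCurve.pt hb) hbE)⁻¹ = 1 := by
    rw [K464.DegCurve.degC_inv k E hEd, K464.PtCurve.degC_pt k hEd hb hbE, neg_neg]
  -- a power of the canonical class comes from the base
  obtain ⟨m, hm, hmem⟩ := (mem_tau0_iff (k := k)).1
    ((isTauEquivZero_iff_mem (k := k) hWi).1 (S4277.result k X W hWi hnum))
  obtain ⟨w₀, hw₀⟩ := halg _ hmem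
  obtain ⟨n, hn, h3⟩ := NTExist.main k hdim hW hWi hH hnum' hchi hG f hf hp hC0 hm hw₀.symm
  exact hnt n hn h3

end K457.NTMain
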